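import Groth.Agent.Cpt43.Finite
import Groth.Prelude.Def_W4stkfunctorsequivp2Beil
import Mathlib.RingTheory.MvPolynomial.Basic
import Mathlib.RingTheory.MvPolynomial.Homogeneous
import Mathlib.Data.Matrix.Basis
import Mathlib.RingTheory.Noetherian.Basic
import Mathlib.RingTheory.PrincipalIdealDomain
import Mathlib.LinearAlgebra.FiniteDimensional.Basic
import Mathlib.Algebra.Homology.ShortComplex.ModuleCat
import Mathlib.Algebra.Category.ModuleCat.Projective

/-!
# Finite modules over the Beilinson algebra are compact in the derived category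
-/

universe w u

open CategoryTheory Category Limits DerivedCategory DEquiv MvPolynomial

set_option autoImplicit false
set_option linter.unusedSectionVars false
set_option linter.style.haveILetI false
set_option backward.isDefEq.respectTransparency false

namespace Groth.Agent.Cpt43

section Triangular

variable {k : Type u} [Field k] {R : Type u} [Ring R] [Algebra k R]

lemma shortExact_of (M : Type u) [AddCommGroup M] [Module R M]
    {N : Type u} [AddCommGroup N] [Module R N] {P : Type u} [AddCommGroup P]
    [Module R P] (f : N →ₗ[R] M) (g : M →ₗ[R] P)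
    (hf : Function.Injective f) (hg : Function.Surjective g) (h : ∀ x, g x = 0 ↔ ∃ y, f y = x) :
    (ShortComplex.mk (ModuleCat.ofHom f) (ModuleCat.ofHom g)
      (ModuleCat.hom_ext (LinearMap.ext fun y => (h _).2 ⟨y, rfl⟩))).ShortExact where
  exact := (ShortComplex.moduleCat_exact_iff _).2 fun x hx => (h x).1 hx
  mono_f := (ModuleCat.mono_iff_injective _).2 hf
  epi_g := (ModuleCat.epi_iff_surjective _).2 hg

variable [HasDerivedCategory.{w} (ModuleCat.{u} R)] [Module.Finite k R] {n : ℕ} (e : Fin (n + 1) → R)
  (he : ∀ l, e l * e l = e l) (hsum : ∑ l, e l = 1)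
  (hvan : ∀ {l j : Fin (n + 1)}, j < l → ∀ r : R, e l * r * e j = 0)
  (hdiag : ∀ (j : Fin (n + 1)) (r : R), ∃ c : k, e j * r * e j = c • e j)

include he hsum hvan hdiag

/-- Induction on the support. -/
theorem cptM_of_support (j : ℕ) (hj : j ≤ n + 1) : ∀ (M : Type u) [AddCommGroup M]
    [Module R M] [Module.Finite R M],
    (∀ l : Fin (n + 1), j ≤ l → ∀ x : M, e l • x = 0) →
      CptM (ModuleCat.of R M) := by
  induction j with
  | zero =>
    intro M _ _ _ hs
    refine CptM.of_isZero (@ModuleCat.isZero_of_subsingleton _ _ _ ⟨fun x y => ?_⟩)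
    have h0 : ∀ z : M, z = 0 := fun z => by
      rw [← one_smul R z, ← hsum, Finset.sum_smul]
      exact Finset.sum_eq_zero fun l _ => hs l (Nat.zero_le _) z
    exact (h0 x).trans (h0 y).symm
  | succ j ih =>
    intro M _ _ _ hs
    let l₀ : Fin (n + 1) := ⟨j, by omega⟩
    let e₀ : R := e l₀
    letI : Module k M := Module.compHom M (algebraMap k R)
    haveI : IsScalarTower k R M := IsScalarTower.of_algebraMap_smul fun _ _ => rfl
    haveI : Module.Finite k M := Module.Finite.trans R M
    haveI : IsNoetherianRing R := isNoetherian_of_tower k inferInstance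
    let W : Submodule k M :=
      LinearMap.range (({ toFun := fun x => e₀ • x
                          map_add' := smul_add e₀
                          map_smul' := fun c x => smul_comm e₀ c x } : M →ₗ[k] M))
    let b := Module.Free.chooseBasis k W
    let T := Module.Free.ChooseBasisIndex k W
    have hx : ∀ t, e₀ • (b t : M) = b t := fun t => by
      obtain ⟨y, hy⟩ := (b t).2
      change e₀ • y = (b t : M) at hy
      rw [← hy, ← mul_smul, he]
    let P : Submodule R (T → R) :=
      { carrier := {f | ∀ t, f t * e₀ = f t}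
        add_mem' := fun {r s} (hr : ∀ t, r t * e₀ = r t) (hs : ∀ t, s t * e₀ = s t) t =>
          show (r t + s t) * e₀ = r t + s t by rw [add_mul, hr, hs]
        zero_mem' := fun _ => zero_mul e₀
        smul_mem' := fun a r (hr : ∀ t, r t * e₀ = r t) t =>
          show (a * r t) * e₀ = a * r t by rw [mul_assoc, hr] }
    let π : (T → R) →ₗ[R] P :=
      { toFun := fun f => ⟨fun t => f t * e₀, fun t =>
          show f t * e₀ * e₀ = f t * e₀ by rw [mul_assoc, he]⟩
        map_add' := fun f g => Subtype.ext (funext fun t => add_mul (f t) (g t) e₀)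
        map_smul' := fun a f => Subtype.ext (funext fun t => mul_assoc a (f t) e₀) }
    have hπ : π ∘ₗ P.subtype = LinearMap.id := LinearMap.ext fun f => Subtype.ext (funext f.2)
    haveI : Module.Finite R P :=
      Module.Finite.of_surjective π fun f => ⟨f, LinearMap.congr_fun hπ f⟩
    haveI : Module.Projective R P := Module.Projective.of_split P.subtype π hπ
    haveI : Projective (ModuleCat.of R P) :=
      (IsProjective.iff_projective _).1 inferInstance
    let φ : P →ₗ[R] M :=
      { toFun := fun f => ∑ t, (f.1 t) • (b t : M)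
        map_add' := fun f g => by
          rw [← Finset.sum_add_distrib]
          exact Finset.sum_congr rfl fun t _ => add_smul _ _ _
        map_smul' := fun a f => by
          rw [RingHom.id_apply, Finset.smul_sum]
          exact Finset.sum_congr rfl fun t _ => mul_smul _ _ _ }
    have hlt : ∀ l : Fin (n + 1), j ≤ l → l = l₀ ∨ l₀ < l := fun l hl => by
      rcases hl.lt_or_eq with h | h
      · exact Or.inr h
      · exact Or.inl (Fin.ext h.symm)
    have hC : ∀ f : P, ∀ t, ∃ c : k, e₀ * f.1 t = c • e₀ := fun f t => by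
      obtain ⟨c, hc⟩ := hdiag l₀ (f.1 t)
      rw [mul_assoc, show (f.1 t) * e l₀ = f.1 t from f.2 t] at hc
      exact ⟨c, hc⟩
    have h₁ : CptM (ModuleCat.of R (LinearMap.ker φ)) := by
      refine ih (by omega) _ fun l hl f => Subtype.ext (Subtype.ext (funext fun t => ?_))
      change e l * (f.1.1 t) = 0
      rcases hlt l hl with rfl | h
      · choose c hc using hC f.1
        have : ∑ t, c t • b t = 0 := Subtype.ext (by
          rw [AddSubmonoidClass.coe_finsetSum]
          calc ∑ t, ((c t • b t : W) : M) = e₀ • φ f.1 := by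
                rw [show φ f.1 = ∑ t, (f.1.1 t) • (b t : M) from rfl, Finset.smul_sum]
                refine Finset.sum_congr rfl fun t _ => ?_
                rw [← mul_smul, hc t, smul_assoc, hx]
                rfl
            _ = 0 := by rw [LinearMap.mem_ker.1 f.2, smul_zero])
        rw [show e l₀ * (f.1.1 t) = c t • e₀ from hc t,
          Fintype.linearIndependent_iff.1 b.linearIndependent c this t, zero_smul]
      · rw [← show (f.1.1 t) * e₀ = f.1.1 t from f.1.2 t, ← mul_assoc]
        exact hvan h _
    have h₃ : CptM (ModuleCat.of R (M ⧸ LinearMap.range φ)) := by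
      refine ih (by omega) _ fun l hl y => ?_
      obtain ⟨x, rfl⟩ := Submodule.Quotient.mk_surjective _ y
      rw [← Submodule.Quotient.mk_smul, Submodule.Quotient.mk_eq_zero]
      rcases hlt l hl with rfl | h
      · have hmem : (⟨e₀ • x, x, rfl⟩ : W) ∈ (⊤ : Submodule k W) := Submodule.mem_top
        rw [← b.span_eq] at hmem
        have hle : W.subtype (⟨e₀ • x, x, rfl⟩ : W) ∈
            (LinearMap.range φ).restrictScalars k := by
          refine (Submodule.span_le (p := Submodule.comap W.subtype ((LinearMap.range φ).restrictScalars k))).2 ?_ hmem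
          rintro _ ⟨t, rfl⟩
          classical
          refine ⟨π (Pi.single t e₀), ?_⟩
          change ∑ t', _ = _
          rw [Finset.sum_eq_single t]
          · show ((Pi.single t e₀ : T → R) t * e₀) • _ = _
            rw [Pi.single_eq_same, he]; exact hx t
          · intro t' _ ht
            show ((Pi.single t e₀ : T → R) t' * e₀) • _ = _
            rw [Pi.single_eq_of_ne ht, zero_mul]
            exact zero_smul _ _
          · exact fun h => absurd (Finset.mem_univ t) h
        exact hle
      · exact (hs l h x).symm ▸ Submodule.zero_mem _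
    have hS₁ := shortExact_of (N := LinearMap.ker φ) (P := LinearMap.range φ) P
      (LinearMap.ker φ).subtype φ.rangeRestrict
      Subtype.val_injective φ.surjective_rangeRestrict fun x =>
        ⟨fun h => ⟨⟨x, LinearMap.mem_ker.2 (congrArg Subtype.val h)⟩, rfl⟩,
          fun ⟨y, hy⟩ => Subtype.ext (hy ▸ LinearMap.mem_ker.1 y.2)⟩
    have hS₂ := shortExact_of (N := LinearMap.range φ) (P := M ⧸ LinearMap.range φ) M
      (LinearMap.range φ).subtype (LinearMap.range φ).mkQ
      Subtype.val_injective (Submodule.mkQ_surjective _) fun x =>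
        ⟨fun h => ⟨⟨x, (Submodule.Quotient.mk_eq_zero _).1 h⟩, rfl⟩,
          fun ⟨y, hy⟩ => (Submodule.Quotient.mk_eq_zero _).2 (hy ▸ y.2)⟩
    exact CptM.middle hS₂ (CptM.right hS₁ h₁ (CptM.of_projective _)) h₃

end Triangular

variable (k : Type u) [Field k] (n : ℕ)

/-- The idempotent of a vertex. -/
noncomputable def idem (l : Fin (n + 1)) : beilinsonAlg k n :=
  ⟨Matrix.single l l 1, fun i j => by
    by_cases h : l = i ∧ l = j
    · obtain ⟨rfl, rfl⟩ := h
      rw [Matrix.single_apply_same, Nat.sub_self]
      exact ⟨fun h => absurd h (lt_irrefl _), isHomogeneous_one _ _⟩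
    · rw [Matrix.single_apply_of_ne _ _ _ _ _ h]
      exact ⟨fun _ => rfl, isHomogeneous_zero _ _ _⟩⟩

lemma idem_mul_idem (l : Fin (n + 1)) : idem k n l * idem k n l = idem k n l :=
  Subtype.ext (by simp [idem, Matrix.single_mul_single_same])

lemma sum_idem : ∑ l, idem k n l = 1 := by
  refine Subtype.ext ?_
  rw [AddSubmonoidClass.coe_finsetSum]
  refine Matrix.ext fun i j => ?_
  rw [Matrix.sum_apply, show ((1 : beilinsonAlg k n) : Matrix (Fin (n + 1)) (Fin (n + 1))
    (MvPolynomial (Fin (n + 1)) k)) = 1 from rfl]
  by_cases h : i = j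
  · subst h
    rw [Matrix.one_apply_eq, Finset.sum_eq_single i]
    · exact Matrix.single_apply_same _ _ _
    · exact fun l _ hl => Matrix.single_apply_of_ne _ _ _ _ _ fun h => hl h.1
    · exact fun h => absurd (Finset.mem_univ i) h
  · rw [Matrix.one_apply_ne h]
    exact Finset.sum_eq_zero fun l _ => Matrix.single_apply_of_ne _ _ _ _ _ fun h' => h (h'.1.symm.trans h'.2)

lemma idem_mul_mul_idem (l j : Fin (n + 1)) (r : beilinsonAlg k n) :
    ((idem k n l * r * idem k n j : beilinsonAlg k n) :
      Matrix (Fin (n + 1)) (Fin (n + 1)) (MvPolynomial (Fin (n + 1)) k)) =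
      Matrix.single l j ((r : Matrix (Fin (n + 1)) (Fin (n + 1)) (MvPolynomial (Fin (n + 1)) k)) l j) := by
  simp [idem, Matrix.single_mul_mul_single]

lemma idem_mul_mul_idem_of_lt {l j : Fin (n + 1)} (h : j < l) (r : beilinsonAlg k n) :
    idem k n l * r * idem k n j = 0 := by
  refine Subtype.ext ?_
  rw [idem_mul_mul_idem, (r.2 l j).1 h]
  exact Matrix.single_zero l j

lemma exists_idem_mul_mul_idem (j : Fin (n + 1)) (r : beilinsonAlg k n) :
    ∃ c : k, idem k n j * r * idem k n j = c • idem k n j := by
  have h0 := (r.2 j j).2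
  rw [Nat.sub_self] at h0
  refine ⟨coeff 0 ((r : Matrix (Fin (n + 1)) (Fin (n + 1)) (MvPolynomial (Fin (n + 1)) k)) j j),
    Subtype.ext ?_⟩
  rw [idem_mul_mul_idem]
  conv_lhs => rw [totalDegree_eq_zero_iff_eq_C.1 (Nat.le_zero.1 h0.totalDegree_le)]
  refine Eq.trans ?_ (Matrix.smul_single _ j j _).symm
  rw [MvPolynomial.smul_eq_C_mul, mul_one]

instance finite_beilinson : Module.Finite k (beilinsonAlg k n) := by
  let f : beilinsonAlg k n →ₗ[k]
      (Fin (n + 1) → Fin (n + 1) → restrictTotalDegree (Fin (n + 1)) k n) :=
    { toFun := fun r i j => ⟨(r : Matrix (Fin (n + 1)) (Fin (n + 1)) (MvPolynomial (Fin (n + 1)) k)) i j,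
        (mem_restrictTotalDegree _ _ _).2 ((r.2 i j).2.totalDegree_le.trans (by omega))⟩
      map_add' := fun _ _ => rfl
      map_smul' := fun _ _ => rfl }
  exact Module.Finite.of_injective f fun r s h => Subtype.ext (Matrix.ext fun i j =>
    congrArg Subtype.val (congrFun (congrFun h i) j))

variable [HasDerivedCategory.{w} (ModuleCat.{u} (beilinsonAlg k n))]

/-- Finite modules over the Beilinson algebra are compact. -/
theorem cptM_beilinson (M : ModuleCat.{u} (beilinsonAlg k n))
    [Module.Finite k (RestrictScalars k (beilinsonAlg k n) M)] : CptM M := by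
  letI : Module k M := Module.compHom M (algebraMap k (beilinsonAlg k n))
  haveI : IsScalarTower k (beilinsonAlg k n) M := IsScalarTower.of_algebraMap_smul fun _ _ => rfl
  have : Module.Finite k M := ‹Module.Finite k (RestrictScalars k (beilinsonAlg k n) M)›
  have : Module.Finite (beilinsonAlg k n) M := Module.Finite.of_restrictScalars_finite k _ _
  exact cptM_of_support (idem k n) (idem_mul_idem k n) (sum_idem k n)
    (fun h r => idem_mul_mul_idem_of_lt k n h r) (exists_idem_mul_mul_idem k n) (n + 1) le_rfl M
    fun l hl => absurd l.2 (by omega)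

end Groth.Agent.Cpt43
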