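import Groth.Agent.DC43.Trunc
import Groth.Agent.DR39.Hom
import Groth.Agent.MV52.Compact
import Groth.Agent.CountSum43.Coproducts
import Groth.Agent.CohDer42.CompactGen
import Groth.Agent.CohDer42.RdAdj
import Mathlib.Algebra.Homology.DerivedCategory.SingleTriangle
import Mathlib.RingTheory.Finiteness.Basic

/-!
# A finite-support criterion for compact objects of `D(Mod R)`
-/

universe w v u

open CategoryTheory Category Limits Pretriangulated DerivedCategory Opposite

set_option autoImplicit false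
set_option linter.unusedSectionVars false
set_option linter.style.haveILetI false
set_option backward.isDefEq.respectTransparency false

namespace Groth.Agent.Cpt43

open MV52 (sigmaPr sigmaOff ι_sigmaOff sigmaOff_comp ι_sigmaPr_self ι_sigmaPr_ne)

variable {R : Type u} [Ring R] [HasDerivedCategory.{w} (ModuleCat.{u} R)]

/-- Morphisms into coproducts of complexes have finite support, in all degrees. -/
def Cpt (K : DerivedCategory (ModuleCat.{u} R)) : Prop :=
  ∀ (J : Type u) (X : J → CochainComplex (ModuleCat.{u} R) ℤ) (m : ℤ) (f : K ⟶ (Q.obj (∐ X))⟦m⟧),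
    ∃ S : Finset J, f ≫ (Q.map (sigmaOff X S))⟦m⟧' = 0

lemma Cpt.of_isZero {K : DerivedCategory (ModuleCat.{u} R)} (h : IsZero K) : Cpt K :=
  fun _ _ _ _ => ⟨∅, h.eq_of_src _ _⟩

lemma Cpt.of_iso {K L : DerivedCategory (ModuleCat.{u} R)} (e : K ≅ L) (h : Cpt K) : Cpt L := by
  intro J X m f
  obtain ⟨S, hS⟩ := h J X m (e.hom ≫ f)
  exact ⟨S, by rwa [assoc, Preadditive.IsIso.comp_left_eq_zero] at hS⟩

lemma Cpt.mono {J : Type u} {X : J → CochainComplex (ModuleCat.{u} R) ℤ} [DecidableEq J] (S U : Finset J) (h : S ⊆ U) :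
    sigmaOff X S ≫ sigmaOff X U = sigmaOff X U :=
  sigmaOff_comp X _ fun _ hk => ι_sigmaOff X (h hk)

lemma Cpt.ext₂ {T : Triangle (DerivedCategory (ModuleCat.{u} R))} (hT : T ∈ distTriang _)
    (h₁ : Cpt T.obj₁) (h₃ : Cpt T.obj₃) : Cpt T.obj₂ := by
  classical
  intro J X m f
  obtain ⟨S₁, hS₁⟩ := h₁ J X m (T.mor₁ ≫ f)
  rw [assoc] at hS₁
  obtain ⟨g, hg⟩ := Triangle.yoneda_exact₂ T hT _ hS₁
  obtain ⟨S₃, hS₃⟩ := h₃ J X m g
  refine ⟨S₁ ∪ S₃, ?_⟩
  rw [← Cpt.mono S₁ (S₁ ∪ S₃) Finset.subset_union_left,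
    ← Cpt.mono S₃ (S₁ ∪ S₃) Finset.subset_union_right, Functor.map_comp, Functor.map_comp,
    Functor.map_comp, Functor.map_comp, reassoc_of% hg, reassoc_of% hS₃, zero_comp, comp_zero]

lemma Cpt.shift {K : DerivedCategory (ModuleCat.{u} R)} (h : Cpt K) (a : ℤ) : Cpt (K⟦a⟧) := by
  intro J X m f
  let e := shiftFunctorAdd' (DerivedCategory (ModuleCat.{u} R)) (m - a) a m (by omega)
  obtain ⟨g, hg⟩ := (shiftFunctor (DerivedCategory (ModuleCat.{u} R)) a).map_surjective (f ≫ e.hom.app _)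
  obtain ⟨S, hS⟩ := h J X (m - a) g
  refine ⟨S, ?_⟩
  rw [← cancel_mono (e.hom.app _), zero_comp, assoc]
  refine (congrArg (f ≫ ·) (e.hom.naturality _)).trans ?_
  rw [← assoc, ← hg, Functor.comp_map, ← Functor.map_comp, hS, Functor.map_zero]

lemma Cpt.ext₃ {T : Triangle (DerivedCategory (ModuleCat.{u} R))} (hT : T ∈ distTriang _)
    (h₁ : Cpt T.obj₁) (h₂ : Cpt T.obj₂) : Cpt T.obj₃ :=
  Cpt.ext₂ (rot_of_distTriang _ hT) h₂ (h₁.shift 1)

/-- All shifts of a module. -/
def CptM (M : ModuleCat.{u} R) : Prop := Cpt ((singleFunctor (ModuleCat.{u} R) 0).obj M)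

lemma CptM.single {M : ModuleCat.{u} R} (h : CptM M) (i : ℤ) :
    Cpt ((singleFunctor (ModuleCat.{u} R) i).obj M) :=
  Cpt.of_iso (((singleFunctors (ModuleCat.{u} R)).shiftIso (-i) i 0 (by omega)).app M) (Cpt.shift h _)

lemma CptM.of_iso {M N : ModuleCat.{u} R} (e : M ≅ N) (h : CptM M) : CptM N :=
  Cpt.of_iso ((singleFunctor (ModuleCat.{u} R) 0).mapIso e) h

lemma CptM.of_isZero {M : ModuleCat.{u} R} (h : IsZero M) : CptM M :=
  Cpt.of_isZero ((singleFunctor (ModuleCat.{u} R) 0).map_isZero h)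

lemma CptM.middle {S : ShortComplex (ModuleCat.{u} R)} (hS : S.ShortExact) (h₁ : CptM S.X₁)
    (h₃ : CptM S.X₃) : CptM S.X₂ :=
  Cpt.ext₂ hS.singleTriangle_distinguished h₁ h₃

lemma CptM.right {S : ShortComplex (ModuleCat.{u} R)} (hS : S.ShortExact) (h₁ : CptM S.X₁)
    (h₂ : CptM S.X₂) : CptM S.X₃ :=
  Cpt.ext₃ hS.singleTriangle_distinguished h₁ h₂

/-- Finitely generated projective modules are compact. -/
theorem CptM.of_projective (P : ModuleCat.{u} R) [Projective P] [Module.Finite R P] : CptM P := by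
  classical
  intro J X m f
  let σ := (HomologicalComplex.single (ModuleCat.{u} R) (ComplexShape.up ℤ) 0).obj P
  have : CochainComplex.IsKProjective σ := DR39.isKProjective_single P 0
  let c := (Q (C := ModuleCat.{u} R)).commShiftIso m
  obtain ⟨g, hg⟩ := DR39.Q_map_surjective σ ((∐ X)⟦m⟧) (show Q.obj σ ⟶ _ from f ≫ c.inv.app (∐ X))
  let s := HomologicalComplex.singleObjXSelf (ComplexShape.up ℤ) 0 P
  obtain ⟨G, hG⟩ := Module.Finite.fg_top (R := R) (M := P)
  choose S hS using fun x : P => CohDer42.CompactGen.exists_support X (0 + m) ((s.inv ≫ g.f 0).hom x)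
  let U := G.biUnion S
  have hU : g ≫ (sigmaOff X U)⟦m⟧' = 0 := by
    refine HomologicalComplex.from_single_hom_ext ?_
    rw [← cancel_epi s.inv]
    refine ModuleCat.hom_ext (LinearMap.ext_on (s := (G : Set P)) hG fun x hx => ?_)
    have hk : ∀ j ∈ S x, ∀ y, ((sigmaOff X U).f (0 + m)).hom (((Sigma.ι X j).f (0 + m)).hom y) = 0 :=
      fun j hj y => LinearMap.congr_fun (congrArg ModuleCat.Hom.hom (HomologicalComplex.congr_hom
        (ι_sigmaOff X (Finset.mem_biUnion.2 ⟨x, hx, hj⟩ : j ∈ U)) (0 + m))) y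
    change ((sigmaOff X U).f (0 + m)).hom ((s.inv ≫ g.f 0).hom x) = 0
    rw [hS x, map_sum]
    exact Finset.sum_eq_zero fun j hj => hk j hj _
  refine ⟨U, ?_⟩
  change f ≫ _ = 0
  rw [← cancel_mono (c.inv.app _), zero_comp, assoc]
  refine (congrArg (f ≫ ·) (c.inv.naturality _)).trans ?_
  have hg' : Q.map g = f ≫ c.inv.app (∐ X) := hg
  rw [← assoc, ← hg', Functor.comp_map, ← Functor.map_comp, hU, Functor.map_zero]

/-- Dévissage to the cohomology modules. -/
lemma Cpt.of_homology_aux : ∀ (n : ℕ) (X : DerivedCategory (ModuleCat.{u} R)) (a : ℤ), X.IsGE a →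
    X.IsLE (a + n - 1) → (∀ i : ℤ, CptM ((homologyFunctor (ModuleCat.{u} R) i).obj X)) → Cpt X
  | 0, X, a, h₁, h₂, _ => Cpt.of_isZero (TStructure.t.isZero X (a + 0 - 1) a (by omega))
  | n + 1, X, a, h₁, h₂, hX => by
    let A := ModuleCat.{u} R
    let b : ℤ := a + n
    have : TStructure.t.IsGE X a := h₁
    have : TStructure.t.IsLE X b := by
      have : a + ↑(n + 1) - 1 = b := by simp [b]; omega
      rw [← this]; exact h₂
    have hlt : ((TStructure.t.truncLT b).obj X).IsLE (a + n - 1) :=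
      (inferInstance : TStructure.t.IsLE ((TStructure.t.truncLT b).obj X) (b - 1))
    have hge : ((TStructure.t.truncLT b).obj X).IsGE a :=
      (inferInstance : TStructure.t.IsGE ((TStructure.t.truncLT b).obj X) a)
    refine Cpt.ext₂ (TStructure.t.triangleLTGE_distinguished b X)
      (Cpt.of_homology_aux n _ a hge hlt fun i => ?_) ?_
    · by_cases hi : i < b
      · have := DC43.isIso_homology_truncLTι X b i hi
        exact CptM.of_iso (asIso ((homologyFunctor A i).map ((TStructure.t.truncLTι b).app X))).symm (hX i)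
      · exact CptM.of_isZero (DerivedCategory.isZero_of_isLE _ (a + n - 1) i (by simp [b] at hi; omega))
    · have h₄ : ((TStructure.t.truncGE b).obj X).IsGE b :=
        (inferInstance : TStructure.t.IsGE ((TStructure.t.truncGE b).obj X) b)
      have h₅ : ((TStructure.t.truncGE b).obj X).IsLE b :=
        (inferInstance : TStructure.t.IsLE ((TStructure.t.truncGE b).obj X) b)
      obtain ⟨Y, ⟨e⟩⟩ := exists_iso_singleFunctor_obj_of_isGE_of_isLE
        ((TStructure.t.truncGE b).obj X) b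
      refine Cpt.of_iso e.symm (CptM.single ?_ b)
      have := DC43.isIso_homology_truncGEπ X b b le_rfl
      exact CptM.of_iso
        (asIso ((homologyFunctor A b).map ((TStructure.t.truncGEπ b).app X)) ≪≫
          (homologyFunctor A b).mapIso e ≪≫ (singleFunctorCompHomologyFunctorIso A b).app Y) (hX b)

theorem Cpt.of_homology (X : DerivedCategory (ModuleCat.{u} R))
    (hfin : Set.Finite {i : ℤ | Nontrivial ((homologyFunctor (ModuleCat.{u} R) i).obj X)})
    (hX : ∀ i : ℤ, CptM ((homologyFunctor (ModuleCat.{u} R) i).obj X)) : Cpt X := by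
  obtain ⟨a, ha⟩ := hfin.bddBelow
  obtain ⟨b, hb⟩ := hfin.bddAbove
  have hz : ∀ i, i < a ∨ b < i → IsZero ((homologyFunctor (ModuleCat.{u} R) i).obj X) := fun i hi => by
    have : Subsingleton ((homologyFunctor (ModuleCat.{u} R) i).obj X) :=
      not_nontrivial_iff_subsingleton.1 fun h => by
        have := ha h; have := hb h; omega
    exact ModuleCat.isZero_of_subsingleton _
  obtain ⟨n, hn⟩ : ∃ n : ℕ, b ≤ a + n - 1 := ⟨(b + 1 - a).toNat, by omega⟩
  refine Cpt.of_homology_aux n X a ?_ ?_ hX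
  · exact (DerivedCategory.isGE_iff X a).2 fun i hi => hz i (Or.inl hi)
  · exact (DerivedCategory.isLE_iff X _).2 fun i hi => hz i (Or.inr (by omega))

end Groth.Agent.Cpt43
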