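import Groth.Agent.Cpt43.Preserves
import Mathlib.LinearAlgebra.Basis.VectorSpace
import Mathlib.LinearAlgebra.Finsupp.LSum
import Mathlib.Algebra.Algebra.Basic
import Mathlib.LinearAlgebra.FreeModule.Finite.Basic
import Mathlib.Algebra.Homology.ShortComplex.HomologicalComplex
import Mathlib.Algebra.Homology.SingleHomology
import Mathlib.Algebra.Category.ModuleCat.Algebra

/-!
# Compact objects over a finite-dimensional algebra have finite-dimensional cohomology
-/

universe w v u

open CategoryTheory Category Limits DerivedCategory Opposite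

set_option autoImplicit false
set_option linter.unusedSectionVars false
set_option linter.style.haveILetI false
set_option backward.isDefEq.respectTransparency false

namespace Groth.Agent.Cpt43

open MV52 (sigmaPr sigmaOff ι_sigmaPr_self ι_sigmaPr_ne)

variable (k : Type u) [Field k] (R : Type u) [Ring R] [Algebra k R]

/-- The coinduced module of `k`. -/
def Coind : Type u := R →ₗ[k] k

instance : AddCommGroup (Coind k R) := inferInstanceAs (AddCommGroup (R →ₗ[k] k))

/-- The underlying linear map. -/
def Coind.toLin {k : Type u} [Field k] {R : Type u} [Ring R] [Algebra k R] (φ : Coind k R) : R →ₗ[k] k := φ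

instance : Module R (Coind k R) where
  smul a φ := φ.toLin.comp (LinearMap.mulRight k a)
  one_smul φ := LinearMap.ext fun r : R => congrArg φ.toLin (mul_one r)
  mul_smul a b φ := LinearMap.ext fun r : R => congrArg φ.toLin (mul_assoc r a b).symm
  smul_zero _ := LinearMap.zero_comp _
  smul_add _ φ ψ := LinearMap.ext fun _ : R => rfl
  add_smul a b φ := LinearMap.ext fun r : R =>
    (congrArg φ.toLin (mul_add r a b)).trans (map_add φ.toLin _ _)
  zero_smul φ := LinearMap.ext fun r : R =>
    (congrArg φ.toLin (mul_zero r)).trans (map_zero φ.toLin)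

variable [Module.Finite k R] [HasDerivedCategory.{w} (ModuleCat.{u} R)]

/-- A compact object has finite-dimensional total cohomology. -/
theorem finite_of_preserves (K : DerivedCategory (ModuleCat.{u} R))
    (hK : ∀ J : Type u, PreservesColimitsOfShape (Discrete J) (preadditiveCoyoneda.obj (op K))) :
    (∀ i : ℤ, Module.Finite k (RestrictScalars k R ((homologyFunctor (ModuleCat.{u} R) i).obj K))) ∧
      Set.Finite {i : ℤ | Nontrivial ((homologyFunctor (ModuleCat.{u} R) i).obj K)} := by
  classical
  let L := Q.objPreimage K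
  let eK : Q.obj L ≅ K := Q.objObjPreimageIso K
  letI : ∀ M : ModuleCat.{u} R, Module k M := fun M => Module.compHom M (algebraMap k R)
  haveI : ∀ M : ModuleCat.{u} R, IsScalarTower k R M := fun M => IsScalarTower.of_algebraMap_smul fun _ _ => rfl
  let bas := fun n => Module.Basis.ofVectorSpace k (L.homology n)
  let ι : ℤ → Type u := fun n => Module.Basis.ofVectorSpaceIndex k (L.homology n)
  -- coordinates on the terms
  have hret : ∀ n, ∃ r : L.X n →ₗ[k] L.cycles n, r ∘ₗ ((L.iCycles n).hom.restrictScalars k) = LinearMap.id :=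
    fun n => LinearMap.exists_leftInverse_of_injective _
      (LinearMap.ker_eq_bot.2 ((ModuleCat.mono_iff_injective (L.iCycles n)).1 inferInstance))
  choose ret hret using hret
  let e : ∀ n, L.X n →ₗ[k] (ι n →₀ k) := fun n =>
    (bas n).repr.toLinearMap ∘ₗ (L.homologyπ n).hom.restrictScalars k ∘ₗ ret n
  have he : ∀ n (z : L.cycles n), e n ((L.iCycles n).hom z) = (bas n).repr ((L.homologyπ n).hom z) :=
    fun n z => congrArg (fun y => (bas n).repr ((L.homologyπ n).hom y)) (LinearMap.congr_fun (hret n) z)
  have hed : ∀ i n (y : L.X i), e n ((L.d i n).hom y) = 0 := fun i n y => by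
    have h1 : (L.d i n).hom y = (L.iCycles n).hom ((L.toCycles i n).hom y) :=
      (LinearMap.congr_fun (congrArg ModuleCat.Hom.hom (L.toCycles_i i n)) y).symm
    rw [h1, he]
    have h2 : (L.homologyπ n).hom ((L.toCycles i n).hom y) = 0 :=
      LinearMap.congr_fun (congrArg ModuleCat.Hom.hom (L.toCycles_comp_homologyπ i n)) y
    rw [h2, map_zero]
  let Ve := Module.Free.chooseBasis k R
  let co : ∀ n, L.X n → ι n → Coind k R := fun n x b =>
    (Finsupp.lapply b).comp ((e n).comp ((LinearMap.toSpanSingleton R _ x).restrictScalars k))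
  have hco : ∀ n x b, co n x b ≠ 0 →
      b ∈ Finset.univ.biUnion fun s => (e n (Ve s • x)).support := fun n x b hb => by
    by_contra hn
    exact hb (Ve.ext fun s => Finsupp.notMem_support_iff.1 fun hm =>
      hn (Finset.mem_biUnion.2 ⟨s, Finset.mem_univ _, hm⟩))
  let g : ∀ n, L.X n →ₗ[R] (ι n →₀ Coind k R) := fun n =>
    { toFun := fun x => Finsupp.onFinset _ (co n x) (hco n x)
      map_add' := fun x y => Finsupp.ext fun b => LinearMap.ext fun r : R => by
        change (e n) (r • (x + y)) b = (e n) (r • x) b + (e n) (r • y) b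
        rw [smul_add, map_add, Finsupp.add_apply]
      map_smul' := fun a x => Finsupp.ext fun b => by
        rw [Finsupp.smul_apply]
        change co n (a • x) b = a • co n x b
        refine LinearMap.ext fun r : R => ?_
        change (co n (a • x) b).toLin r = (a • co n x b).toLin r
        change (co n (a • x) b).toLin r = (co n x b).toLin (r * a)
        change (e n) (r • a • x) b = (e n) ((r * a) • x) b
        rw [mul_smul] }
  -- the complexes
  let J := Σ n : ℤ, ι n
  let I0 : ModuleCat.{u} R := ModuleCat.of R (Coind k R)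
  let X : J → CochainComplex (ModuleCat.{u} R) ℤ := fun j =>
    (HomologicalComplex.single (ModuleCat.{u} R) (ComplexShape.up ℤ) j.1).obj I0
  let σ : ∀ n, I0 ≅ ((HomologicalComplex.single (ModuleCat.{u} R) (ComplexShape.up ℤ) n).obj I0).X n :=
    fun n => (HomologicalComplex.singleObjXSelf (ComplexShape.up ℤ) n I0).symm
  let c : ∀ (n : ℤ) (b : ι n), I0 ⟶ (∐ X).X n := fun n b =>
    (σ n).hom ≫ (Sigma.ι X (⟨n, b⟩ : J)).f n
  let Fm : ∀ n, L.X n ⟶ (∐ X).X n := fun n =>
    ModuleCat.ofHom ((Finsupp.lsum ℕ fun b => (c n b).hom) ∘ₗ g n)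
  have hcd : ∀ n m b, c n b ≫ (∐ X).d n m = 0 := fun n m b => by
    simp only [c, assoc, HomologicalComplex.Hom.comm]
    rw [HomologicalComplex.single_obj_d, zero_comp, comp_zero]
  let f₀ : L ⟶ ∐ X :=
    { f := Fm
      comm' := fun i j hij => by
        have h1 : Fm i ≫ (∐ X).d i j = 0 := by
          refine ModuleCat.hom_ext ?_
          change ((∐ X).d i j).hom ∘ₗ ((Finsupp.lsum ℕ fun b => (c i b).hom) ∘ₗ g i) = 0
          rw [← LinearMap.comp_assoc]
          have : ((∐ X).d i j).hom ∘ₗ (Finsupp.lsum ℕ fun b => (c i b).hom) = 0 :=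
            Finsupp.lhom_ext fun b a => by
              have := LinearMap.congr_fun (congrArg ModuleCat.Hom.hom (hcd i j b)) a
              rw [LinearMap.comp_apply, Finsupp.lsum_single]
              exact this
          rw [this, LinearMap.zero_comp]
        have h2 : L.d i j ≫ Fm j = 0 := by
          refine ModuleCat.hom_ext (LinearMap.ext fun y => ?_)
          change Finsupp.lsum ℕ (fun b => (c j b).hom) (g j ((L.d i j).hom y)) = 0
          have : g j ((L.d i j).hom y) = 0 := Finsupp.ext fun b => LinearMap.ext fun r : R => by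
            change (e j) (r • (L.d i j).hom y) b = 0
            rw [← map_smul, hed]
            rfl
          rw [this, map_zero]
        rw [h1, h2] }
  have := hK J
  obtain ⟨S, hS⟩ := exists_support_of_preserves K X (eK.inv ≫ Q.map f₀)
  rw [assoc, Preadditive.IsIso.comp_left_eq_zero, ← Functor.map_comp] at hS
  have hmem : ∀ j : J, j ∈ S := by
    rintro ⟨n, b⟩
    by_contra hj
    let p := sigmaPr X (⟨n, b⟩ : J)
    have hoff : sigmaOff X S ≫ p = p := by
      rw [sigmaOff, Preadditive.sub_comp, id_comp, Preadditive.sum_comp, Finset.sum_eq_zero, sub_zero]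
      intro i hi
      rw [assoc, ι_sigmaPr_ne X (fun h => hj (by subst h; exact hi)), comp_zero]
    have h0 : Q.map (f₀ ≫ p) = 0 := by
      rw [← hoff, ← assoc, Functor.map_comp, hS, zero_comp]
    have h1 : HomologicalComplex.homologyMap (f₀ ≫ p) n = 0 := by
      have h := homologyFunctorFactors_hom_naturality (f₀ ≫ p) n
      rw [h0, Functor.map_zero, zero_comp] at h
      exact (cancel_epi ((homologyFunctorFactors (ModuleCat.{u} R) n).hom.app L)).1
        (h.symm.trans comp_zero.symm)
    have h2 : L.iCycles n ≫ (f₀ ≫ p).f n = 0 := by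
      have hd : (X ⟨n, b⟩).d ((ComplexShape.up ℤ).prev n) n = 0 := HomologicalComplex.single_obj_d _ _ _ _ _
      have : IsIso ((X ⟨n, b⟩).homologyπ n) := HomologicalComplex.isIso_homologyπ _ _ _ rfl hd
      have : HomologicalComplex.cyclesMap (f₀ ≫ p) n = 0 := by
        rw [← cancel_mono ((X ⟨n, b⟩).homologyπ n), zero_comp,
          ← HomologicalComplex.homologyπ_naturality, h1, comp_zero]
      rw [← HomologicalComplex.cyclesMap_i, this, zero_comp]
    obtain ⟨z, hz⟩ := (ModuleCat.epi_iff_surjective (L.homologyπ n)).1 inferInstance (bas n b)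
    let τ : (X ⟨n, b⟩).X n ⟶ I0 := (σ n).inv
    have h3 : (p.f n ≫ τ).hom ∘ₗ (Finsupp.lsum ℕ fun b' => (c n b').hom) = Finsupp.lapply b := by
      refine Finsupp.lhom_ext fun b' a => ?_
      rw [LinearMap.comp_apply, Finsupp.lsum_single, Finsupp.lapply_apply, Finsupp.single_apply]
      change (c n b' ≫ p.f n ≫ τ).hom a = _
      simp only [c, assoc]
      rw [← HomologicalComplex.comp_f_assoc]
      by_cases hb : b' = b
      · subst hb
        rw [if_pos rfl, ι_sigmaPr_self, HomologicalComplex.id_f, id_comp, Iso.hom_inv_id]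
        rfl
      · rw [if_neg hb, ι_sigmaPr_ne X (fun h => hb (eq_of_heq (Sigma.mk.inj_iff.1 h).2)),
          HomologicalComplex.zero_f, zero_comp, comp_zero]
        rfl
    have h4 : g n ((L.iCycles n).hom z) b = 0 := by
      have := LinearMap.congr_fun h3 (g n ((L.iCycles n).hom z))
      rw [Finsupp.lapply_apply] at this
      rw [← this]
      have h5 := LinearMap.congr_fun (congrArg ModuleCat.Hom.hom h2) z
      change ((f₀ ≫ p).f n).hom ((L.iCycles n).hom z) = 0 at h5
      change τ.hom ((p.f n).hom ((Fm n).hom ((L.iCycles n).hom z))) = 0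
      exact (congrArg τ.hom h5).trans (map_zero _)
    have h6 : (e n) ((1 : R) • (L.iCycles n).hom z) b = 0 := LinearMap.congr_fun h4 (1 : R)
    rw [one_smul, he, hz, Module.Basis.repr_self, Finsupp.single_eq_same] at h6
    exact one_ne_zero h6
  have : Finite J := @Finite.of_fintype J ⟨S, hmem⟩
  have hι : ∀ n, Finite (ι n) := fun n =>
    Finite.of_injective (fun b => (⟨n, b⟩ : J)) fun _ _ h => eq_of_heq (Sigma.mk.inj_iff.1 h).2
  let θ : ∀ i, (homologyFunctor (ModuleCat.{u} R) i).obj K ≅ L.homology i := fun i =>
    (homologyFunctor (ModuleCat.{u} R) i).mapIso eK.symm ≪≫ (homologyFunctorFactors _ i).app L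
  refine ⟨fun i => ?_, ?_⟩
  · have : Module.Finite k (L.homology i) := Module.Finite.of_basis (bas i)
    exact Module.Finite.equiv ((θ i).toLinearEquiv.symm.restrictScalars k :
      L.homology i ≃ₗ[k] RestrictScalars k R ((homologyFunctor (ModuleCat.{u} R) i).obj K))
  · refine (Set.finite_range fun j : J => j.1).subset fun i (hi : Nontrivial _) => ?_
    have : Nontrivial (L.homology i) := (θ i).toLinearEquiv.toEquiv.symm.nontrivial
    obtain ⟨b⟩ := (bas i).index_nonempty
    exact ⟨⟨i, b⟩, rfl⟩

end Groth.Agent.Cpt43
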