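import Groth.Agent.Cpt43.Criterion
import Mathlib.CategoryTheory.Preadditive.Yoneda.Basic
import Mathlib.Algebra.Category.Grp.Basic
import Mathlib.GroupTheory.QuotientGroup.Basic
import Mathlib.Algebra.BigOperators.Finprod

/-!
# The criterion and preservation of coproducts by `Hom(K, -)`
-/

universe w v u

open CategoryTheory Category Limits Pretriangulated DerivedCategory Opposite

set_option autoImplicit false
set_option linter.unusedSectionVars false
set_option linter.style.haveILetI false
set_option backward.isDefEq.respectTransparency false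

namespace Groth.Agent.Cpt43

open MV52 (sigmaPr sigmaOff ι_sigmaOff sigmaOff_comp ι_sigmaPr_self ι_sigmaPr_ne)

variable {R : Type u} [Ring R] [HasDerivedCategory.{w} (ModuleCat.{u} R)]
  (K : DerivedCategory (ModuleCat.{u} R))

theorem preservesColimit_Q' {J : Type u} (X : J → CochainComplex (ModuleCat.{u} R) ℤ) :
    PreservesColimit (Discrete.functor X) (Q (C := ModuleCat.{u} R)) :=
  CountSum43.preservesColimit_Q CohDer42.RdAdj.enoughKInj X

/-- Preservation of coproducts gives finite support. -/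
theorem exists_support_of_preserves {J : Type u} (X : J → CochainComplex (ModuleCat.{u} R) ℤ)
    [PreservesColimitsOfShape (Discrete J) (preadditiveCoyoneda.obj (op K))]
    (f : K ⟶ Q.obj (∐ X)) : ∃ S : Finset J, f ≫ Q.map (sigmaOff X S) = 0 := by
  classical
  let N : AddSubgroup (K ⟶ Q.obj (∐ X)) :=
    { carrier := {f | ∃ S : Finset J, f ≫ Q.map (sigmaOff X S) = 0}
      zero_mem' := ⟨∅, zero_comp⟩
      add_mem' := fun {f g} ⟨S, hS⟩ ⟨T, hT⟩ => ⟨S ∪ T, by
        rw [Preadditive.add_comp]
        nth_rw 1 [← Cpt.mono S (S ∪ T) Finset.subset_union_left]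
        rw [← Cpt.mono T (S ∪ T) Finset.subset_union_right, Functor.map_comp, Functor.map_comp,
          reassoc_of% hS, reassoc_of% hT]
        simp⟩
      neg_mem' := fun {f} ⟨S, hS⟩ => ⟨S, by rw [Preadditive.neg_comp, hS, neg_zero]⟩ }
  have := preservesColimit_Q' X
  have hc := isColimitOfPreserves (preadditiveCoyoneda.obj (op K))
    (isColimitOfPreserves (Q (C := ModuleCat.{u} R)) (coproductIsCoproduct X))
  let π : (preadditiveCoyoneda.obj (op K)).obj (Q.obj (∐ X)) ⟶
      AddCommGrpCat.of ((K ⟶ Q.obj (∐ X)) ⧸ N) :=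
    AddCommGrpCat.ofHom (QuotientAddGroup.mk' N)
  have h0 : π = 0 := hc.hom_ext fun j => AddCommGrpCat.ext fun g => by
    refine (QuotientAddGroup.eq_zero_iff (N := N) (g ≫ Q.map (Sigma.ι X j.as))).2 ⟨{j.as}, ?_⟩
    rw [assoc, ← Functor.map_comp, ι_sigmaOff X (Finset.mem_singleton_self _), Functor.map_zero,
      comp_zero]
  exact (QuotientAddGroup.eq_zero_iff f).1 (ConcreteCategory.congr_hom h0 f)

/-- Finite support gives preservation of coproducts. -/
theorem preserves_of_cpt (hK : Cpt K) (J : Type u) :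
    PreservesColimitsOfShape (Discrete J) (preadditiveCoyoneda.obj (op K)) := by
  classical
  constructor
  intro E
  let X : J → CochainComplex (ModuleCat.{u} R) ℤ := fun j => Q.objPreimage (E.obj ⟨j⟩)
  suffices h : PreservesColimit (Discrete.functor X ⋙ Q) (preadditiveCoyoneda.obj (op K)) from
    @preservesColimit_of_iso_diagram _ _ _ _ _ _ (Discrete.functor X ⋙ Q) E _
      (Discrete.natIso fun j => Q.objObjPreimageIso (E.obj j)) h
  have := preservesColimit_Q' X
  refine preservesColimit_of_preserves_colimit_cocone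
    (isColimitOfPreserves (Q (C := ModuleCat.{u} R)) (coproductIsCoproduct X)) ?_
  have h0 : ∀ f : K ⟶ Q.obj (∐ X), ∃ S : Finset J, f ≫ Q.map (sigmaOff X S) = 0 := fun f => by
    let z := shiftFunctorZero (DerivedCategory (ModuleCat.{u} R)) ℤ
    obtain ⟨S, hS⟩ := hK J X 0 (f ≫ z.inv.app _)
    refine ⟨S, ?_⟩
    rw [← cancel_mono (z.inv.app _), zero_comp, assoc]
    exact (congrArg (f ≫ ·) (z.inv.naturality _)).trans ((assoc _ _ _).symm.trans hS)
  choose S hS using h0
  have hsum : ∀ f, f = ∑ i ∈ S f, (f ≫ Q.map (sigmaPr X i)) ≫ Q.map (Sigma.ι X i) := fun f => by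
    have := hS f
    rw [sigmaOff, Functor.map_sub, Preadditive.comp_sub, CategoryTheory.Functor.map_id, comp_id, sub_eq_zero,
      Functor.map_sum, Preadditive.comp_sum] at this
    simpa [Functor.map_comp] using this
  have hsupp : ∀ f j, j ∉ S f → f ≫ Q.map (sigmaPr X j) = 0 := fun f j hj => by
    conv_lhs => rw [hsum f]
    rw [Preadditive.sum_comp]
    refine Finset.sum_eq_zero fun i hi => ?_
    rw [assoc, ← Functor.map_comp, ι_sigmaPr_ne X (fun h => hj (by subst h; exact hi)), Functor.map_zero,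
      comp_zero]
  let val : ∀ (s : Cocone ((Discrete.functor X ⋙ Q) ⋙ preadditiveCoyoneda.obj (op K))),
      (K ⟶ Q.obj (∐ X)) → J → (s.pt : Type w) := fun s f j =>
    (s.ι.app ⟨j⟩).hom (f ≫ Q.map (sigmaPr X j))
  have hval : ∀ s f j, j ∉ S f → val s f j = 0 := fun s f j hj =>
    (congrArg (s.ι.app ⟨j⟩).hom (hsupp f j hj)).trans (map_zero _)
  refine ⟨fun s => AddCommGrpCat.ofHom (AddMonoidHom.mk' (fun f : K ⟶ Q.obj (∐ X) =>
      ∑ᶠ j : J, val s f j) fun f g => ?_), fun s j => ?_,
    fun s m hm => ?_⟩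
  · have hf : ∀ f : K ⟶ Q.obj (∐ X),
        (Function.support (val s f)).Finite := fun f =>
      (S f).finite_toSet.subset fun j hj => by
        by_contra hne
        exact hj (hval s f j hne)
    rw [← finsum_add_distrib (hf f) (hf g)]
    refine finsum_congr fun j => ?_
    exact (congrArg (s.ι.app ⟨j⟩).hom (Preadditive.add_comp _ _ _ f g _)).trans (map_add _ _ _)
  · obtain ⟨j⟩ := j
    refine AddCommGrpCat.ext fun (g : K ⟶ Q.obj (X j)) => ?_
    change ∑ᶠ i : J, val s (g ≫ Q.map (Sigma.ι X j)) i = _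
    rw [finsum_eq_single _ j fun i hi => (congrArg (s.ι.app ⟨i⟩).hom (by
      rw [assoc, ← Functor.map_comp, ι_sigmaPr_ne X hi.symm, Functor.map_zero, comp_zero])).trans
        (map_zero _)]
    refine congrArg (s.ι.app ⟨j⟩).hom (?_ : (g ≫ Q.map (Sigma.ι X j)) ≫ Q.map (sigmaPr X j) = g)
    rw [assoc, ← Functor.map_comp, ι_sigmaPr_self, CategoryTheory.Functor.map_id]
    exact comp_id g
  · refine AddCommGrpCat.ext fun (f : K ⟶ Q.obj (∐ X)) => ?_
    change _ = ∑ᶠ i : J, val s f i
    rw [finsum_eq_sum_of_support_subset _ (s := S f) fun i hi => by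
      by_contra hne
      exact hi (hval s f i hne)]
    refine (congrArg m.hom (hsum f)).trans ((map_sum m.hom _ _).trans (Finset.sum_congr rfl fun i _ => ?_))
    exact DFunLike.congr_fun (congrArg AddCommGrpCat.Hom.hom (hm ⟨i⟩)) _

end Groth.Agent.Cpt43
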